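import Cfsg.Agent.H425.OF.ElD4
import Cfsg.Agent.H425.OF.D4
import Cfsg.Agent.H425.OF.BaseP

/-!
# No outer automorphisms for `PΩ₈⁺(q)`, `q = 2 ^ m` (helper425)

`out_d4_two` : `S ⊲ X` with trivial centralizer, `S ≅ PΩ₈⁺(q)`, the element orders of `X` satisfy `UB2 q`: `S = ⊤`.
-/

set_option autoImplicit false

namespace Cfsg.Agent.H425.OF

open QuadraticMap Matrix Cfsg.Agent.LieClassical.QuadForms Cfsg.Agent.LieClassical.OrthCore
  Cfsg.Agent.LieClassical.OrthTrans Cfsg.Agent.LieClassical.OrthSimple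
  Cfsg.Agent.ClassicalGeometry.TrialityOct Cfsg.Agent.ClassicalGeometry.OrthAut1
  Cfsg.Agent.ClassicalGeometry.Triality Cfsg.Agent.ClassicalGeometry.OrthSemi
  Cfsg.Agent.ClassicalGeometry.OrthSemiCount Cfsg.Agent.H376.Six
  Cfsg.Agent.H989.OutOrth.Basic Cfsg.Agent.H989.OutOrth.Forms Cfsg.Agent.H989.OutOrth.Tri
  Cfsg.Agent.H989.OutOrth.Four Cfsg.Agent.H989.OutOrth.Small Cfsg.Agent.H989.OutOrth.SymFour

/-- **The classes of elements of prime order of `S₃ × C_f`.** -/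
theorem three_class {H : Type*} [Group H] [Finite H] {f : ℕ} (hcard : Nat.card H = 6 * f) {ρ k φ : H}
    (hρ3 : ρ ^ 3 = 1) (hk : k * k = 1) (hkρ : k * ρ * k⁻¹ = ρ⁻¹) (hρ : ρ ≠ 1)
    (hφρ : φ * ρ = ρ * φ) (hφk : φ * k = k * φ)
    (hint : ∀ j : ℕ, φ ^ j = 1 → f ∣ j) {h : H} {s : ℕ} (hs : s.Prime) (hh : orderOf h = s) :
    ∃ (g x : H) (j : ℕ), g * h * g⁻¹ = x * φ ^ j ∧ (φ ^ j) ^ s = 1 ∧
      (x = 1 ∨ (x = ρ ∧ s = 3) ∨ (x = k ∧ s = 2)) := by
  obtain ⟨e, he, hr⟩ := dih3 hρ3 hk hkρ hρ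
  have hcomm : ∀ d, e d * φ = φ * e d := by
    intro d
    obtain ⟨i, -, h | h⟩ := hr (e d) ⟨d, rfl⟩
    · rw [h]; exact ((show Commute φ ρ from hφρ).pow_right i).symm
    · rw [h, mul_assoc, ← ((show Commute φ ρ from hφρ).pow_right i).eq, ← mul_assoc, ← hφk,
        mul_assoc]
  have hcen : ∀ (j : ℕ) (d : DihedralGroup 3), φ ^ j = e d → f ∣ j := by
    intro j d hj
    have hcen : ∀ x, d * x = x * d := by
      intro x
      apply he
      rw [map_mul, map_mul, ← hj]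
      exact ((show Commute (e x) φ from hcomm x).pow_right j).symm
    have h1 : ∀ y : DihedralGroup 3, (∀ x, y * x = x * y) → y = 1 := by decide
    apply hint
    rw [hj, h1 _ hcen, map_one]
  let Θ : DihedralGroup 3 × Fin f → H := fun p => e p.1 * φ ^ (p.2 : ℕ)
  have hΘ : Function.Injective Θ := by
    rintro ⟨d, i⟩ ⟨d', i'⟩ h
    have h' : e d * φ ^ (i : ℕ) = e d' * φ ^ (i' : ℕ) := h
    have key : ∀ (i i' : ℕ) (d d' : DihedralGroup 3), i ≤ i' → i' < f → e d * φ ^ i = e d' * φ ^ i' → i = i' := by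
      intro i i' d d' hi hi' h
      have h1 : φ ^ (i' - i) = e (d'⁻¹ * d) := by
        have h2 : φ ^ i' = φ ^ (i' - i) * φ ^ i := by rw [← pow_add, Nat.sub_add_cancel hi]
        rw [h2, ← mul_assoc] at h
        have h3 := mul_right_cancel h
        rw [map_mul, map_inv, h3, inv_mul_cancel_left]
      have h4 := hcen _ _ h1
      rcases Nat.eq_zero_or_pos (i' - i) with h5 | h5
      · omega
      · have := Nat.le_of_dvd h5 h4
        omega
    have hii : i = i' := by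
      apply Fin.ext
      rcases le_total (i : ℕ) i' with h1 | h1
      · exact key _ _ d d' h1 i'.2 h'
      · exact (key _ _ d' d h1 i.2 h'.symm).symm
    subst hii
    have h1 := he (mul_right_cancel h')
    rw [h1]
  have hbij : Function.Bijective Θ := by
    refine hΘ.bijective_of_nat_card_le ?_
    rw [hcard, Nat.card_prod, DihedralGroup.nat_card, Nat.card_eq_fintype_card,
      Fintype.card_fin]
  have hcp : ∀ d (j : ℕ), Commute (e d) (φ ^ j) := fun d j => (show Commute (e d) φ from hcomm d).pow_right j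
  obtain ⟨⟨d, j⟩, rfl⟩ := hbij.2 h
  change orderOf (e d * φ ^ (j : ℕ)) = s at hh
  change ∃ (g x : H) (j' : ℕ), g * (e d * φ ^ (j : ℕ)) * g⁻¹ = x * φ ^ j' ∧ (φ ^ j') ^ s = 1 ∧ _
  have hpow : e (d ^ s) * (φ ^ (j : ℕ)) ^ s = 1 := by
    have h1 : (e d * φ ^ (j : ℕ)) ^ s = 1 := by rw [← hh, pow_orderOf_eq_one]
    rwa [(hcp d j).mul_pow, ← map_pow] at h1
  have hds : d ^ s = 1 := by
    have hcen : ∀ x, d ^ s * x = x * d ^ s := by
      intro x
      apply he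
      have h2 : e (d ^ s) = ((φ ^ (j : ℕ)) ^ s)⁻¹ := eq_inv_of_mul_eq_one_left hpow
      rw [map_mul, map_mul, h2]
      exact (((hcp x j).pow_right s).inv_right).symm.eq
    have h1 : ∀ y : DihedralGroup 3, (∀ x, y * x = x * y) → y = 1 := by decide
    exact h1 _ hcen
  have hφs : (φ ^ (j : ℕ)) ^ s = 1 := by rwa [hds, map_one, one_mul] at hpow
  obtain ⟨i, hi, hx⟩ := hr (e d) ⟨d, rfl⟩
  have heds : (e d) ^ s = 1 := by rw [← map_pow, hds, map_one]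
  have hk1 : k ≠ 1 := by
    rintro rfl
    have h1 : ρ = ρ⁻¹ := by
      have : (1 : H) * ρ * 1⁻¹ = ρ := by group
      rwa [this] at hkρ
    have h2 : ρ * ρ = 1 := by nth_rewrite 1 [h1]; rw [inv_mul_cancel]
    apply hρ
    calc ρ = ρ ^ 3 * (ρ * ρ)⁻¹ := by group
      _ = 1 := by rw [hρ3, h2, inv_one, one_mul]
  have hρs : ∀ n, ρ ^ n = 1 → 3 ∣ n := by
    intro n hn
    have h1 : orderOf ρ = 3 := orderOf_eq_prime hρ3 hρ
    rw [← h1]
    exact orderOf_dvd_of_pow_eq_one hn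
  have h3s : ∀ t, (ρ ^ t) ^ s = 1 → ¬ 3 ∣ t → s = 3 := by
    intro t ht h3t
    rw [← pow_mul] at ht
    rcases (Nat.Prime.dvd_mul Nat.prime_three).1 (hρs _ ht) with h | h
    · exact absurd h h3t
    · exact ((Nat.prime_dvd_prime_iff_eq Nat.prime_three hs).1 h).symm
  rcases hx with hx | hx
  · interval_cases i
    · exact ⟨1, 1, j, by rw [hx, pow_zero]; group, hφs, Or.inl rfl⟩
    · refine ⟨1, ρ, j, by rw [hx, pow_one]; group, hφs, Or.inr (Or.inl ⟨rfl, ?_⟩)⟩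
      rw [hx] at heds
      exact h3s 1 heds (by norm_num)
    · refine ⟨k, ρ, j, ?_, hφs, Or.inr (Or.inl ⟨rfl, ?_⟩)⟩
      · rw [hx]
        have h1 : k * φ ^ (j : ℕ) = φ ^ (j : ℕ) * k := ((show Commute φ k from hφk).pow_left j).symm.eq
        have h2 : k * ρ ^ 2 * k⁻¹ = ρ := by
          have h3 : k * ρ ^ 2 * k⁻¹ = (k * ρ * k⁻¹) ^ 2 := by
            rw [pow_two, pow_two]; group
          rw [h3, hkρ, inv_pow]
          exact inv_eq_of_mul_eq_one_right (by rw [← pow_succ]; exact hρ3)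
        calc k * (ρ ^ 2 * φ ^ (j : ℕ)) * k⁻¹ = k * ρ ^ 2 * k⁻¹ * (k * φ ^ (j : ℕ)) * k⁻¹ := by group
          _ = ρ * φ ^ (j : ℕ) := by rw [h2, h1]; group
      · rw [hx] at heds
        exact h3s 2 heds (by norm_num)
  · -- `k ρ ^ i`
    have hinv : k * ρ ^ i = (ρ ^ i)⁻¹ * k := by
      have h1 : k * ρ ^ i * k⁻¹ = (k * ρ * k⁻¹) ^ i := (conj_pow ).symm
      rw [hkρ, inv_pow] at h1
      rw [← h1]; group
    have hsq : (k * ρ ^ i) * (k * ρ ^ i) = 1 := by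
      nth_rewrite 1 [hinv]
      calc (ρ ^ i)⁻¹ * k * (k * ρ ^ i) = (ρ ^ i)⁻¹ * (k * k) * ρ ^ i := by group
        _ = 1 := by rw [hk]; group
    have hne1 : k * ρ ^ i ≠ 1 := by
      intro h1
      have h2 : k = (ρ ^ i)⁻¹ := eq_inv_of_mul_eq_one_left h1
      have h3 : k * ρ * k⁻¹ = ρ := by
        rw [h2]
        have : Commute (ρ ^ i) ρ := (Commute.refl ρ).pow_left i
        rw [inv_inv, this.inv_left.eq, inv_mul_cancel_right]
      rw [hkρ] at h3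
      have h4 : ρ * ρ = 1 := by nth_rewrite 1 [← h3]; rw [inv_mul_cancel]
      apply hρ
      calc ρ = ρ ^ 3 * (ρ * ρ)⁻¹ := by group
        _ = 1 := by rw [hρ3, h4, inv_one, one_mul]
    have hs2 : s = 2 := by
      rw [hx] at heds
      have h1 : orderOf (k * ρ ^ i) = 2 := orderOf_eq_prime (by rw [pow_two, hsq]) hne1
      have h2 : 2 ∣ s := by rw [← h1]; exact orderOf_dvd_of_pow_eq_one heds
      exact ((Nat.prime_dvd_prime_iff_eq Nat.prime_two hs).1 h2).symm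
    -- conjugate by `ρ ^ (2 i)`
    refine ⟨ρ ^ (2 * i), k, j, ?_, hφs, Or.inr (Or.inr ⟨rfl, hs2⟩)⟩
    rw [hx]
    have h1 : ρ ^ (2 * i) * φ ^ (j : ℕ) = φ ^ (j : ℕ) * ρ ^ (2 * i) :=
      (((show Commute φ ρ from hφρ).pow_left j).pow_right _).symm.eq
    have h2 : ρ ^ (2 * i) * k = k * (ρ ^ (2 * i))⁻¹ := by
      have h1 : k * ρ ^ (2 * i) * k⁻¹ = (k * ρ * k⁻¹) ^ (2 * i) := (conj_pow ).symm
      rw [hkρ, inv_pow] at h1
      rw [← h1]
      have hkk : k⁻¹ = k := inv_eq_of_mul_eq_one_left hk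
      calc ρ ^ (2 * i) * k = (k * k) * ρ ^ (2 * i) * k := by rw [hk, one_mul]
        _ = k * (k * ρ ^ (2 * i) * k⁻¹) := by rw [hkk]; group
    have h3 : ρ ^ i * (ρ ^ (2 * i))⁻¹ * (ρ ^ (2 * i))⁻¹ = 1 := by
      rw [mul_assoc, ← _root_.mul_inv_rev, ← pow_add, mul_inv_eq_one]
      have e1 : 2 * i + 2 * i = i + 3 * i := by ring
      rw [e1, pow_add, pow_mul, hρ3, one_pow, mul_one]
    calc ρ ^ (2 * i) * (k * ρ ^ i * φ ^ (j : ℕ)) * (ρ ^ (2 * i))⁻¹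
        = (ρ ^ (2 * i) * k) * ρ ^ i * (φ ^ (j : ℕ) * (ρ ^ (2 * i))⁻¹) := by group
      _ = (k * (ρ ^ (2 * i))⁻¹) * ρ ^ i * ((ρ ^ (2 * i))⁻¹ * φ ^ (j : ℕ)) := by
        rw [h2]
        have h4 : Commute (φ ^ (j : ℕ)) ((ρ ^ (2 * i))⁻¹) :=
          (((show Commute φ ρ from hφρ).pow_left j).pow_right _).inv_right
        rw [h4.eq]
      _ = k * (((ρ ^ (2 * i))⁻¹) * ρ ^ i * (ρ ^ (2 * i))⁻¹) * φ ^ (j : ℕ) := by group
      _ = k * φ ^ (j : ℕ) := by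
        have h5 : Commute ((ρ ^ (2 * i))⁻¹) (ρ ^ i) := ((Commute.refl ρ).pow_pow _ _).inv_left
        rw [h5.eq, h3, mul_one]

/-! ### `u8` is a product of Siegel transformations -/

section

variable {F : Type*} [Field F]

theorem mem_E_of_apply {u w : V8 F} (hu : plusForm 4 F u = 0) (hw : polar (plusForm 4 F) u w = 0)
    {g : V8 F ≃ₗ[F] V8 F} (h : ∀ v, g v = v + polar (plusForm 4 F) u v • w - polar (plusForm 4 F) w v • u -
      (plusForm 4 F w * polar (plusForm 4 F) u v) • u) : g ∈ E (plusForm 4 F) := by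
  have : g = siegel (plusForm 4 F) u w hu hw := by
    ext1 v
    rw [h, siegel_apply]
  rw [this]
  exact siegel_mem_E hu hw

theorem u8_mem_E : u8 F ∈ E (plusForm 4 F) := by
  have h1 : plusForm 4 F (mk8 0 1 0 0 0 0 0 0 : V8 F) = 0 := by
    rw [norm8]; simp only [mk8_a0, mk8_a1, mk8_a2, mk8_a3, mk8_b0, mk8_b1, mk8_b2, mk8_b3]; ring
  have h2 : polar (plusForm 4 F) (mk8 0 1 0 0 0 0 0 0 : V8 F) (mk8 0 0 0 0 0 0 1 0) = 0 := by
    rw [polar8]; simp only [mk8_a0, mk8_a1, mk8_a2, mk8_a3, mk8_b0, mk8_b1, mk8_b2, mk8_b3]; ring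
  have h3 : plusForm 4 F (mk8 0 0 0 1 0 0 0 0 : V8 F) = 0 := by
    rw [norm8]; simp only [mk8_a0, mk8_a1, mk8_a2, mk8_a3, mk8_b0, mk8_b1, mk8_b2, mk8_b3]; ring
  have h4 : polar (plusForm 4 F) (mk8 0 0 0 1 0 0 0 0 : V8 F) (mk8 0 0 1 0 0 0 0 0) = 0 := by
    rw [polar8]; simp only [mk8_a0, mk8_a1, mk8_a2, mk8_a3, mk8_b0, mk8_b1, mk8_b2, mk8_b3]; ring
  have h5 : plusForm 4 F (mk8 0 0 0 0 0 1 0 0 : V8 F) = 0 := by
    rw [norm8]; simp only [mk8_a0, mk8_a1, mk8_a2, mk8_a3, mk8_b0, mk8_b1, mk8_b2, mk8_b3]; ring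
  have h6 : polar (plusForm 4 F) (mk8 0 0 0 0 0 1 0 0 : V8 F) (mk8 (-1) 0 0 0 1 0 0 0) = 0 := by
    rw [polar8]; simp only [mk8_a0, mk8_a1, mk8_a2, mk8_a3, mk8_b0, mk8_b1, mk8_b2, mk8_b3]; ring
  have key : u8 F = siegel _ _ _ h5 h6 * (siegel _ _ _ h3 h4 * siegel _ _ _ h1 h2) := by
    ext1 v
    change u8f v = siegel _ _ _ h5 h6 (siegel _ _ _ h3 h4 (siegel _ _ _ h1 h2 v))
    have e1 : siegel _ _ _ h1 h2 v = mk8 (v (.inl 0)) (v (.inl 1) - v (.inl 2)) (v (.inl 2)) (v (.inl 3)) (v (.inr 0))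
        (v (.inr 1)) (v (.inr 2) + v (.inr 1)) (v (.inr 3)) := by
      rw [siegel_apply]
      apply ext8 <;> simp only [Pi.add_apply, Pi.sub_apply, Pi.smul_apply, smul_eq_mul, norm8, polar8, mk8_a0, mk8_a1, mk8_a2,
        mk8_a3, mk8_b0, mk8_b1, mk8_b2, mk8_b3] <;> ring
    have e2 : ∀ v : V8 F, siegel _ _ _ h3 h4 v = mk8 (v (.inl 0)) (v (.inl 1)) (v (.inl 2) + v (.inr 3))
        (v (.inl 3) - v (.inr 2)) (v (.inr 0)) (v (.inr 1)) (v (.inr 2)) (v (.inr 3)) := by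
      intro v
      rw [siegel_apply]
      apply ext8 <;> simp only [Pi.add_apply, Pi.sub_apply, Pi.smul_apply, smul_eq_mul, norm8, polar8, mk8_a0, mk8_a1, mk8_a2,
        mk8_a3, mk8_b0, mk8_b1, mk8_b2, mk8_b3] <;> ring
    have e3 : ∀ v : V8 F, siegel _ _ _ h5 h6 v = mk8 (v (.inl 0) - v (.inl 1)) (v (.inl 1)) (v (.inl 2)) (v (.inl 3))
        (v (.inr 0) + v (.inl 1)) (v (.inr 1) + v (.inr 0) - v (.inl 0) + v (.inl 1)) (v (.inr 2)) (v (.inr 3)) := by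
      intro v
      rw [siegel_apply]
      apply ext8 <;> simp only [Pi.add_apply, Pi.sub_apply, Pi.smul_apply, smul_eq_mul, norm8, polar8, mk8_a0, mk8_a1, mk8_a2,
        mk8_a3, mk8_b0, mk8_b1, mk8_b2, mk8_b3] <;> ring
    rw [e1, e2, e3]
    apply ext8 <;> simp only [u8f, mk8_a0, mk8_a1, mk8_a2, mk8_a3, mk8_b0, mk8_b1, mk8_b2, mk8_b3] <;> ring
  rw [key]
  exact (E _).mul_mem (siegel_mem_E h5 h6) ((E _).mul_mem (siegel_mem_E h3 h4) (siegel_mem_E h1 h2))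

theorem u8_four (h2 : (2 : F) = 0) (v : V8 F) : (u8 F ^ 4) v = w8f 1 v := by
  have h1 : (u8 F ^ 4) v = u8f (u8f (u8f (u8f v))) := by
    simp only [pow_succ, pow_zero, one_mul]
    rfl
  rw [h1, u8_two, u8_two]
  apply ext8 <;> simp only [u8f, w8f, mk8_a0, mk8_a1, mk8_a2, mk8_a3, mk8_b0, mk8_b1, mk8_b2, mk8_b3]
  · linear_combination (-2 * v (.inl 1) + 5 * v (.inl 2) + 5 * v (.inr 3)) * h2
  · linear_combination (-2 * v (.inl 2) - 3 * v (.inr 3)) * h2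
  · linear_combination (2 * v (.inr 3)) * h2
  · linear_combination (5 * v (.inl 0) - 10 * v (.inl 1) + 13 * v (.inl 2) - 5 * v (.inr 0) - 5 * v (.inr 1) -
      2 * v (.inr 2) + 4 * v (.inr 3)) * h2
  · linear_combination (2 * v (.inl 1) - 5 * v (.inl 2) - 5 * v (.inr 3)) * h2
  · linear_combination (-2 * v (.inl 0) + 8 * v (.inl 1) - 15 * v (.inl 2) + 2 * v (.inr 0) - 10 * v (.inr 3)) * h2
  · linear_combination (-3 * v (.inl 0) + 7 * v (.inl 1) - 10 * v (.inl 2) + 3 * v (.inr 0) + 2 * v (.inr 1) -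
      3 * v (.inr 3)) * h2

theorem u8_pow8 (h2 : (2 : F) = 0) : u8 F ^ 8 = 1 := by
  have h1 : ∀ v, ((u8 F ^ 4) ^ 2) v = v := by
    intro v
    have h3 : ((u8 F ^ 4) ^ 2) v = w8f 1 (w8f 1 v) := by
      simp only [← u8_four h2]
      generalize u8 F ^ 4 = x
      simp only [pow_succ, pow_zero, one_mul]
      rfl
    rw [h3, w8_w8]
    have h3 : (1 : F) + 1 = 0 := by linear_combination h2
    rw [h3, w8_zero]
  have h2 : u8 F ^ 8 = (u8 F ^ 4) ^ 2 := by rw [← pow_mul]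
  rw [h2]
  exact LinearEquiv.ext h1

theorem u8_ns2 (h2 : (2 : F) = 0) : ¬ ∃ c : F, ∀ v, (u8 F ^ 4) v = c • v := by
  rintro ⟨c, hc⟩
  have h1 := hc (mk8 0 0 1 0 0 0 0 0)
  rw [u8_four h2] at h1
  have h3 := congrFun h1 (.inl 3)
  have h4 : w8f 1 (mk8 0 0 1 0 0 0 0 0 : V8 F) (.inl 3) = 0 + 1 * 1 := rfl
  have h5 : (c • (mk8 0 0 1 0 0 0 0 0 : V8 F)) (.inl 3) = c * 0 := rfl
  rw [h4, h5] at h3
  have h6 : (1 : F) = 0 := by linear_combination h3
  exact one_ne_zero h6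

theorem DL8_one8 (A : GL (Fin 3) F) : DL8 A (one8 F) = one8 F := by
  have hz : (fun i : Fin 3 => one8 F (.inl i.succ)) = 0 := by
    funext i
    fin_cases i <;> rfl
  have hz' : (fun i : Fin 3 => one8 F (.inr i.succ)) = 0 := by
    funext i
    fin_cases i <;> rfl
  refine ext_succ rfl (fun i => ?_) rfl fun i => ?_
  · change ((A : Matrix (Fin 3) (Fin 3) F) *ᵥ fun i => one8 F (.inl i.succ)) i = _
    rw [hz, mulVec_zero]
    exact (congrFun hz i).symm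
  · change (((A⁻¹ : GL (Fin 3) F) : Matrix (Fin 3) (Fin 3) F)ᵀ *ᵥ fun i => one8 F (.inr i.succ)) i = _
    rw [hz', mulVec_zero]
    exact (congrFun hz' i).symm

theorem rf_DL8 (A : GL (Fin 3) F) (v : V8 F) : (rf (one8 F) one_ne).1 (DL8 A v) = DL8 A ((rf (one8 F) one_ne).1 v) := by
  have hxO : ∀ w, plusForm 4 F (DL8 A w) = plusForm 4 F w := fun w => DL8_mem A w
  have hpol : polar (plusForm 4 F) (one8 F) (DL8 A v) = polar (plusForm 4 F) (one8 F) v := by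
    conv_lhs => rw [← DL8_one8 A]
    simp only [polar]
    rw [← map_add, hxO, hxO, hxO]
  rw [rf_apply, rf_apply, refl_apply, refl_apply, map_sub, map_smul, DL8_one8, hpol]

variable [Fintype F]

set_option maxHeartbeats 2000000 in
theorem d4two_core {m : ℕ} (hm : 1 ≤ m) (hF : Fintype.card F = 2 ^ m) (Y0 : Subgroup (MulAut (P (plusForm 4 F))))
    (hY0 : OkP (UB2 (Fintype.card F)) Y0) : Y0 ≤ Cfsg.Inn (P (plusForm 4 F)) := by
  have := Fact.mk Nat.prime_two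
  have hchar : CharP F 2 := charP_of_card hF
  have h2 : (2 : F) = 0 := by
    have := CharP.cast_eq_zero F 2
    exact_mod_cast this
  have hG : Good (plusForm 4 F) := good4
  have hfin := finite_P8 (F := F)
  have hfin2 : Finite (MulAut (P (plusForm 4 F))) := inferInstance
  have hci := conj_injective hG
  have hkl : ∀ N : Gam (plusForm 4 F), kl _ (Psi _ N) = out _ N := fun N => rfl
  -- the structure of `Out`
  obtain ⟨φ, hφ1, hφ2, hφ3⟩ := exists_frob (F := F) hm hF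
  obtain ⟨ρ, hρ⟩ := exists_rho hG
  by_contra hcon
  obtain ⟨α0, hα0, hs⟩ := exists_prime hcon
  obtain ⟨s, hs'⟩ : ∃ s, s = orderOf (kl _ α0) := ⟨_, rfl⟩
  rw [← hs'] at hs
  obtain ⟨g, x, j, hg, hjs, hx⟩ := three_class (H := Cfsg.Out (P (plusForm 4 F))) (f := m) (ρ := cl ρ)
    (k := out _ (kapG F)) (φ := out _ (Fi φ)) (by rw [card_Out4 hm hF, if_pos rfl]; ring) (rho_cube hG hρ)
    kap_sq (kap_rho hG hρ) (cl_rho_ne hG hρ) (Fi_rho hG hρ φ) (Fi_kap φ) (dvd_of_out_pow hG hφ3) hs hs'.symm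
  -- a conjugate of `Y0`
  obtain ⟨γ, rfl⟩ := kl_surjective g
  obtain ⟨Y, hYdef⟩ : ∃ Y, Y = Y0.map (MulAut.conj γ).toMonoidHom := ⟨_, rfl⟩
  have hY : OkP (UB2 (Fintype.card F)) Y := by rw [hYdef]; exact hY0.conj γ
  obtain ⟨α, hα⟩ : ∃ α, α = γ * α0 * γ⁻¹ := ⟨_, rfl⟩
  have hαY : α ∈ Y := by
    rw [hYdef, hα]
    exact ⟨α0, hα0, rfl⟩
  have hklα : kl _ α = x * out _ (Fi φ) ^ j := by
    rw [hα, map_mul, map_mul, map_inv]
    exact hg
  have hαs : orderOf (kl _ α) = s := by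
    have h1 : kl _ α = MulAut.conj (kl _ γ) (kl _ α0) := by rw [hα, map_mul, map_mul, map_inv, MulAut.conj_apply]
    rw [h1, hs']
    exact MulEquiv.orderOf_eq _ _
  clear hg hYdef hα hs'
  obtain ⟨σ, hσ⟩ : ∃ σ, σ = φ ^ j := ⟨_, rfl⟩
  rw [← map_pow, Fi_pow, ← hσ] at hklα hjs
  have hσs : σ ^ s = 1 := by
    rw [← map_pow] at hjs
    have h7 := sg_eq_one_of_out hG hjs
    rwa [map_pow, sg_Fi] at h7
  -- the regular unipotent element
  have huE : u8 F ∈ E (plusForm 4 F) := u8_mem_E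
  have ho : orderOf ((⟨u8 F, huE⟩ : ↥(E (plusForm 4 F))) : P (plusForm 4 F)) = 8 := by
    have h7 := orderOf_mk hG (g := ⟨u8 F, huE⟩) (r := 2) (k := 2) Nat.prime_two (by
      apply Subtype.ext
      rw [SubmonoidClass.coe_pow]
      exact u8_pow8 h2) (u8_ns2 (F := F) h2)
    exact h7
  have hfixF : Psi _ (Fi σ) ((⟨u8 F, huE⟩ : ↥(E (plusForm 4 F))) : P (plusForm 4 F)) =
      ((⟨u8 F, huE⟩ : ↥(E (plusForm 4 F))) : P (plusForm 4 F)) := Psi_fix fun v => Fi_u8 σ v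
  have hfixr := rho_fix hρ huE
  have hunip : ∀ β : MulAut (P (plusForm 4 F)), kl _ β = kl _ α → s ≠ 2 →
      β ((⟨u8 F, huE⟩ : ↥(E (plusForm 4 F))) : P (plusForm 4 F)) =
        ((⟨u8 F, huE⟩ : ↥(E (plusForm 4 F))) : P (plusForm 4 F)) → False := by
    intro β hβ h2s hfix
    have h11 := okP_mul (s := s) hci hY (hY.mem hαY hβ) (by rw [hβ]; exact hαs) hfix (by
      rw [ho]
      exact Nat.Coprime.pow_right 3 ((Nat.coprime_primes hs Nat.prime_two).2 h2s))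
    rw [ho, hF] at h11
    exact not_ub2_8 hm hs.two_le h11
  -- involutions
  have hinv : ∀ N : Gam (plusForm 4 F), (∀ (A : GL (Fin 3) F) (v : V8 F), N.1 (DL8 A v) = DL8 A (N.1 v)) →
      out _ (N * Fi σ) = kl _ α → s = 2 → False := by
    intro N hN hNα h2s
    subst h2s
    obtain ⟨j', i, hj', hi, rfl, hσi⟩ : ∃ j' i, 1 ≤ j' ∧ (i = 1 ∨ i = 2) ∧ m = j' * i ∧ σ ^ i = 1 := by
      by_cases hσ1 : σ = 1
      · exact ⟨m, 1, hm, Or.inl rfl, by ring, by rw [hσ1, one_pow]⟩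
      · obtain ⟨j', hj, hm', -⟩ := sigma_two hm hF hσ1 hσs
        exact ⟨j', 2, hj, Or.inr rfl, hm', hσs⟩
    obtain ⟨r, hr, hr3, hrd⟩ := exists_r (a := 2 ^ j') (by
      have : (1 : ℕ) < 2 ^ j' := Nat.one_lt_pow (by omega) (by norm_num)
      omega)
    have hr3' : r ∣ (2 ^ j') ^ 3 - 1 := by
      refine hrd.trans ⟨2 ^ j' - 1, ?_⟩
      obtain ⟨b, hb⟩ : ∃ b, 2 ^ j' = b + 1 := ⟨2 ^ j' - 1, by
        have : 1 ≤ 2 ^ j' := Nat.one_le_pow _ _ (by norm_num)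
        omega⟩
      rw [hb, Nat.add_sub_cancel, Nat.sub_eq_iff_eq_add (Nat.one_le_pow _ _ (by omega))]
      ring
    obtain ⟨A, hA, hAσ⟩ := exists_fixed (F := F) (j := j') (s := i) (by omega) (by omega) hF hr hr3'
    have hr2 : r ≠ 2 := by
      rintro rfl
      have h9 : (2 ^ j') % 2 = 0 := Nat.mod_eq_zero_of_dvd (dvd_pow_self 2 (by omega))
      have h10 : ((2 ^ j') ^ 2) % 2 = 0 := by rw [Nat.pow_mod, h9]
      omega
    obtain ⟨d, hd⟩ := hr.odd_of_ne_two hr2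
    have hrE : DL8 A ∈ E (plusForm 4 F) := mem_E_of_odd hG (DL8_mem A) (n := d) (by
      rw [← map_pow, ← hd, ← hA, pow_orderOf_eq_one, map_one])
    have hoA : orderOf ((⟨DL8 A, hrE⟩ : ↥(E (plusForm 4 F))) : P (plusForm 4 F)) = r := by
      have h7 := orderOf_mk hG (g := ⟨DL8 A, hrE⟩) (r := r) (k := 0) hr (by
        apply Subtype.ext
        rw [SubmonoidClass.coe_pow]
        change DL8 A ^ r ^ (0 + 1) = 1
        rw [zero_add, pow_one, ← map_pow, ← hA, pow_orderOf_eq_one, map_one]) (by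
        rintro ⟨d, hd⟩
        rw [pow_zero, pow_one] at hd
        have h8 := DL8_scalar hd
        rw [h8, orderOf_one] at hA
        exact hr.one_lt.ne hA)
      rwa [zero_add, pow_one] at h7
    have hfix : Psi _ (N * Fi σ) ((⟨DL8 A, hrE⟩ : ↥(E (plusForm 4 F))) : P (plusForm 4 F)) =
        ((⟨DL8 A, hrE⟩ : ↥(E (plusForm 4 F))) : P (plusForm 4 F)) := Psi_fix fun v => by
      have h9 := Fi_DG8 σ A
      rw [hAσ σ hσi] at h9
      have h10 : (Fi σ).1 (DL8 A v) = DL8 A ((Fi σ).1 v) := congrArg (fun N : Gam (plusForm 4 F) => N.1 v) h9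
      change N.1 ((Fi σ).1 (DL8 A v)) = DL8 A (N.1 ((Fi σ).1 v))
      rw [h10, hN]
    have h11 := okP_mul (s := 2) hci hY (hY.mem hαY (hNα : kl _ (Psi _ (N * Fi σ)) = kl _ α)) (by
      rw [hkl, hNα]; exact hαs) hfix (by
      rw [hoA]
      exact (Nat.coprime_primes Nat.prime_two hr).2 hr2.symm)
    rw [hoA, hF] at h11
    exact not_ub2_mul hj' hi hr hr3 hrd h11
  rcases hx with rfl | ⟨rfl, rfl⟩ | ⟨rfl, rfl⟩
  · rw [one_mul] at hklα
    by_cases h2s : s = 2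
    · exact hinv 1 (fun _ _ => rfl) (by rw [one_mul, hklα]) h2s
    · exact hunip (Psi _ (Fi σ)) hklα.symm h2s hfixF
  · refine hunip (ρ * Psi _ (Fi σ)) ?_ (by norm_num) ?_
    · rw [hklα, map_mul]; rfl
    · rw [MulAut.mul_apply, hfixF, hfixr]
  · exact hinv (rf (one8 F) one_ne) rf_DL8 (by rw [hklα, map_mul, out_kapG hG]) rfl

end

theorem out_d4_two {F : Type*} [Field F] [Fintype F] {m : ℕ} (hm : 1 ≤ m) (hF : Fintype.card F = 2 ^ m) {X : Type*}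
    [Group X] [Finite X] (S : Subgroup X) [S.Normal] (hc : Subgroup.centralizer (S : Set X) = ⊥)
    (e : ↥S ≃* Cfsg.POmega F (Cfsg.quadFormPlus 4 F)) (hub : ∀ x : X, UB2 (Fintype.card F) (orderOf x)) : S = ⊤ := by
  have hG : Good (plusForm 4 F) := good4
  have e1 : Cfsg.POmega F (Cfsg.quadFormPlus 4 F) ≃* P (plusForm 4 F) := by
    rw [← coe_plusForm]
    exact Cfsg.Agent.ClassicalGeometry.OrthSemiForms.pomegaEquiv hG
  exact top_of_okP S hc (e.trans e1) hub fun Y hY => d4two_core hm hF Y hY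

end Cfsg.Agent.H425.OF
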