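import Mathlib

/-!
# Singer cycles of `GL(3, q)` and field automorphisms of order two (helper425)

`exists_singer` : `A` of order `q ^ 3 - 1`, `A * A ^ σ` of order `q₀ ^ 3 - 1`, `q = q₀ ^ 2`, `σ x = x ^ q₀`.
-/

set_option autoImplicit false

namespace Cfsg.Agent.H425.OF

open Module

universe u

section

variable {F K : Type*} [Field F] [Field K] [Algebra F K]

/-- a basis of vectors of a spanning set -/
theorem exists_basis_of_span [FiniteDimensional F K] {n : ℕ} (hn : finrank F K = n) {s : Set K}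
    (hs : Submodule.span F s = ⊤) : ∃ b : Basis (Fin n) F K, ∀ i, b i ∈ s := by
  obtain ⟨f, h1, h2, h3⟩ := Submodule.exists_fun_fin_finrank_span_eq F s
  have h4 : finrank F (Submodule.span F s) = n := by rw [hs, finrank_top, hn]
  let b := Basis.mk h3 (by rw [h2, hs])
  refine ⟨b.reindex (finCongr h4), fun i => ?_⟩
  rw [Basis.reindex_apply, Basis.mk_apply]
  exact h1 _

end

/-- the order of `g ^ (1 + c)` when `g` has order `c ^ 2 - 1` -/
theorem orderOf_pow_one_add {G : Type*} [Group G] {g : G} {c : ℕ} (hc : 2 ≤ c) (hg : orderOf g = c ^ 2 - 1) :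
    orderOf (g ^ (1 + c)) = c - 1 := by
  have h1 : c ^ 2 - 1 = (1 + c) * (c - 1) := by
    obtain ⟨b, rfl⟩ : ∃ b, c = b + 1 := ⟨c - 1, by omega⟩
    rw [Nat.add_sub_cancel, Nat.sub_eq_iff_eq_add (Nat.one_le_pow _ _ (by omega))]
    ring
  rw [orderOf_pow_of_dvd (by omega) (by rw [hg, h1]; exact Dvd.intro _ rfl), hg, h1]
  exact Nat.mul_div_cancel_left _ (by omega)

variable {F : Type u} [Field F] [Fintype F]

/-- a Singer cycle -/
theorem exists_singer_one {p f : ℕ} [Fact p.Prime] (hF : Fintype.card F = p ^ f) :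
    ∃ A : GL (Fin 3) F, orderOf A = Fintype.card F ^ 3 - 1 := by
  have hchar : CharP F p := by
    obtain ⟨q, hq⟩ := CharP.exists F
    obtain ⟨n, hqp, hn⟩ := FiniteField.card F q
    have h1 : q ∣ p ^ f := by rw [← hF, hn]; exact dvd_pow_self q n.pos.ne'
    have h2 : q = p := (Nat.prime_dvd_prime_iff_eq hqp Fact.out).1 (hqp.dvd_of_dvd_pow h1)
    rwa [← h2]
  let K := FiniteField.Extension F p 3
  have hK : Nat.card K = Nat.card F ^ 3 := FiniteField.natCard_extension F p 3
  have hfr : finrank F K = 3 := FiniteField.finrank_extension F p 3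
  have := Fintype.ofFinite K
  obtain ⟨b, -⟩ := exists_basis_of_span (F := F) (K := K) hfr (s := Set.univ) (by simp)
  obtain ⟨g, hg⟩ := IsCyclic.exists_generator (α := Kˣ)
  have hgo : orderOf g = Fintype.card F ^ 3 - 1 := by
    rw [orderOf_eq_card_of_forall_mem_zpowers hg, Nat.card_units, hK, Nat.card_eq_fintype_card]
  refine ⟨Units.map (Algebra.leftMulMatrix b).toRingHom.toMonoidHom g, ?_⟩
  rw [orderOf_injective _ (Units.map_injective (Algebra.leftMulMatrix_injective b)), hgo]

/-- **Singer cycles and a field automorphism of order two.** -/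
theorem exists_singer {p j : ℕ} [Fact p.Prime] (hj : 1 ≤ j) (hF : Fintype.card F = p ^ (j * 2)) {σ : F ≃+* F}
    (hσ : ∀ x, σ x = x ^ p ^ j) :
    ∃ A : GL (Fin 3) F, orderOf A = Fintype.card F ^ 3 - 1 ∧
      orderOf (A * Matrix.GeneralLinearGroup.map (σ : F →+* F) A) = (p ^ j) ^ 3 - 1 := by
  have hchar : CharP F p := by
    obtain ⟨q, hq⟩ := CharP.exists F
    obtain ⟨n, hqp, hn⟩ := FiniteField.card F q
    have h1 : q ∣ p ^ (j * 2) := by rw [← hF, hn]; exact dvd_pow_self q n.pos.ne'
    have h2 : q = p := (Nat.prime_dvd_prime_iff_eq hqp Fact.out).1 (hqp.dvd_of_dvd_pow h1)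
    rwa [← h2]
  have hp : p.Prime := Fact.out
  obtain ⟨a, ha⟩ : ∃ a : ℕ, a = p ^ j := ⟨_, rfl⟩
  have hq : Fintype.card F = a ^ 2 := by rw [hF, ha, ← pow_mul]
  have ha2 : 2 ≤ a := by
    rw [ha]
    exact Nat.one_lt_pow (by omega) hp.one_lt
  rw [← ha] at hσ ⊢
  let K := FiniteField.Extension F p 3
  have hK : Nat.card K = Nat.card F ^ 3 := FiniteField.natCard_extension F p 3
  have hfr : finrank F K = 3 := FiniteField.finrank_extension F p 3
  have := Fintype.ofFinite K
  have hcK : Fintype.card K = (a ^ 3) ^ 2 := by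
    rw [← Nat.card_eq_fintype_card, hK, Nat.card_eq_fintype_card, hq]; ring
  have hcharK : CharP K p := charP_of_injective_algebraMap (algebraMap F K).injective p
  let τ : K →+* K := iterateFrobenius K p (j * 3)
  have hτ : ∀ x, τ x = x ^ a ^ 3 := by
    intro x
    change iterateFrobenius K p (j * 3) x = _
    rw [iterateFrobenius_def, ha, ← pow_mul]
  have hττ : ∀ x, τ (τ x) = x := by
    intro x
    rw [hτ, hτ, ← pow_mul, ← pow_two, ← hcK, FiniteField.pow_card]
  have hcc : ∀ c : F, c ^ a ^ 2 = c := by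
    intro c
    rw [← hq, FiniteField.pow_card]
  have hσσ : ∀ c : F, σ (σ c) = c := by
    intro c
    rw [hσ, hσ, ← pow_mul, ← pow_two]
    exact hcc c
  have hτF : ∀ c : F, τ (algebraMap F K c) = algebraMap F K (σ c) := by
    intro c
    rw [hτ, hσ, ← map_pow]
    congr 1
    have : a ^ 3 = a ^ 2 * a := by ring
    rw [this, pow_mul, hcc]
  have hτs : ∀ (c : F) (x : K), τ (c • x) = σ c • τ x := by
    intro c x
    rw [Algebra.smul_def, Algebra.smul_def, map_mul, hτF]
  obtain ⟨c, hc⟩ : ∃ c : F, σ c ≠ c := by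
    by_contra hcon
    push Not at hcon
    have h1 : Fintype.card F ≤ a := by
      classical
      have h8 : (Polynomial.X ^ a - Polynomial.X : Polynomial F) ≠ 0 :=
        FiniteField.X_pow_card_sub_X_ne_zero F (by omega)
      have h9 : (Finset.univ : Finset F) ⊆ (Polynomial.X ^ a - Polynomial.X : Polynomial F).roots.toFinset := by
        intro x _
        rw [Multiset.mem_toFinset, Polynomial.mem_roots h8, Polynomial.IsRoot.def]
        have := hcon x
        rw [hσ] at this
        simp [this]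
      calc Fintype.card F = (Finset.univ : Finset F).card := rfl
        _ ≤ _ := Finset.card_le_card h9
        _ ≤ _ := Multiset.toFinset_card_le _
        _ ≤ _ := Polynomial.card_roots' _
        _ = _ := FiniteField.X_pow_card_sub_X_natDegree_eq F (by omega)
    rw [hq] at h1
    nlinarith
  have hspan : Submodule.span F {x : K | τ x = x} = ⊤ := by
    rw [Submodule.eq_top_iff']
    intro x
    have hu : x + τ x ∈ {x : K | τ x = x} := by
      change τ (x + τ x) = x + τ x
      rw [map_add, hττ, add_comm]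
    have hv : c • x + σ c • τ x ∈ {x : K | τ x = x} := by
      change τ (c • x + σ c • τ x) = _
      rw [map_add, hτs, hτs, hττ, hσσ, add_comm]
    have hx : x = (c - σ c)⁻¹ • ((c • x + σ c • τ x) - σ c • (x + τ x)) := by
      have h1 : (c • x + σ c • τ x) - σ c • (x + τ x) = (c - σ c) • x := by module
      rw [h1, smul_smul, inv_mul_cancel₀ (sub_ne_zero.2 (Ne.symm hc)), one_smul]
    rw [hx]
    exact Submodule.smul_mem _ _ (Submodule.sub_mem _ (Submodule.subset_span hv)
      (Submodule.smul_mem _ _ (Submodule.subset_span hu)))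
  obtain ⟨b, hb⟩ := exists_basis_of_span (F := F) (K := K) hfr hspan
  have hbτ : ∀ i, τ (b i) = b i := hb
  have hrepr : ∀ (x : K) (i : Fin 3), b.repr (τ x) i = σ (b.repr x i) := by
    intro x i
    have h1 : τ x = ∑ i, σ (b.repr x i) • b i := by
      conv_lhs => rw [← b.sum_repr x]
      rw [map_sum]
      refine Finset.sum_congr rfl fun i _ => ?_
      rw [hτs, hbτ]
    rw [h1, b.repr_sum_self]
  obtain ⟨g, hg⟩ := IsCyclic.exists_generator (α := Kˣ)
  have hgo : orderOf g = (a ^ 3) ^ 2 - 1 := by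
    rw [orderOf_eq_card_of_forall_mem_zpowers hg, Nat.card_units, Nat.card_eq_fintype_card, hcK]
  let M : Kˣ →* GL (Fin 3) F := Units.map (Algebra.leftMulMatrix b).toRingHom.toMonoidHom
  have hM : Function.Injective M := Units.map_injective (Algebra.leftMulMatrix_injective b)
  have hmap : Matrix.GeneralLinearGroup.map (σ : F →+* F) (M g) = M (g ^ a ^ 3) := by
    apply Units.ext
    ext i k
    change σ (Algebra.leftMulMatrix b (g : K) i k) = Algebra.leftMulMatrix b ((g ^ a ^ 3 : Kˣ) : K) i k
    rw [Algebra.leftMulMatrix_eq_repr_mul, Algebra.leftMulMatrix_eq_repr_mul, ← hrepr, map_mul, hbτ, hτ,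
      Units.val_pow_eq_pow_val]
  refine ⟨M g, ?_, ?_⟩
  · rw [orderOf_injective _ hM, hgo, hq]
    congr 1
    ring
  · rw [hmap, ← map_mul, orderOf_injective _ hM, ← pow_succ', add_comm]
    exact orderOf_pow_one_add (by
      calc 2 ≤ a := ha2
        _ ≤ a ^ 3 := Nat.le_self_pow (by norm_num) a) hgo

end Cfsg.Agent.H425.OF
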